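import Groth.Prelude.Def_RegImm
import Groth.Agent.KRegLib.Kinds
import Groth.Agent.KRegLib.Regular
import Groth.Agent.KRegLib.Mor
import Groth.Agent.RegImmLib.Basic
import Groth.Agent.DimFormula.Scheme
import Groth.Agent.FibDim.BaseField
import Groth.Agent.GrpSchLib.SmoothRegular
import Mathlib.RingTheory.KrullDimension.Regular

/-!
# The diagonal of a smooth variety is a regular immersion of codimension the dimension
-/

noncomputable section

set_option autoImplicit false
set_option linter.style.haveILetI false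

universe u

open AlgebraicGeometry CategoryTheory Limits

namespace Groth.Agent.H9DiagReg

open DimFormula

/-- `dim O_{X, i z} = dim O_{Z, z} + length` for a sequence generating the ideal near `z`. -/
theorem ringKrullDim_stalk_add {Z X : Scheme.{u}} [IsLocallyNoetherian X] (i : Z ⟶ X) (U : X.affineOpens)
    (hci : IsClosedImmersion (i ∣_ U.1)) (rs : List Γ(X, U.1))
    (hrs : RingTheory.Sequence.IsWeaklyRegular Γ(X, U.1) rs)
    (hker : RingHom.ker (i.app U.1).hom = Ideal.ofList rs) (z : Z) (hzU : i z ∈ U.1) :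
    ringKrullDim (Z.presheaf.stalk z) + (rs.length : WithBot ℕ∞) = ringKrullDim (X.presheaf.stalk (i z)) := by
  obtain ⟨hV, hs⟩ := Groth.Agent.Synt29.surjective_app_of_isClosedImmersion_restrict i U.1 U.2
  let φ : Γ(X, U.1) →+* Γ(Z, i ⁻¹ᵁ U.1) := (i.app U.1).hom
  letI : Algebra Γ(X, U.1) (X.presheaf.stalk (i z)) := (X.presheaf.germ U.1 (i z) hzU).hom.toAlgebra
  letI : Algebra Γ(Z, i ⁻¹ᵁ U.1) (Z.presheaf.stalk z) := (Z.presheaf.germ (i ⁻¹ᵁ U.1) z hzU).hom.toAlgebra
  haveI hX : IsLocalization.AtPrime (X.presheaf.stalk (i z)) (U.2.primeIdealOf ⟨i z, hzU⟩).asIdeal :=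
    U.2.isLocalization_stalk ⟨i z, hzU⟩
  haveI hZ : IsLocalization.AtPrime (Z.presheaf.stalk z) (hV.primeIdealOf ⟨z, hzU⟩).asIdeal :=
    hV.isLocalization_stalk ⟨z, hzU⟩
  have hcomap : (U.2.primeIdealOf ⟨i z, hzU⟩).asIdeal = (hV.primeIdealOf ⟨z, hzU⟩).asIdeal.comap φ := by
    rw [show φ = (i.appLE U.1 (i ⁻¹ᵁ U.1) le_rfl).hom by simp only [φ, Scheme.Hom.app_eq_appLE]]
    exact (congrArg PrimeSpectrum.asIdeal
      (IsAffineOpen.comap_primeIdealOf_appLE (f := i) U.1 U.2 (i ⁻¹ᵁ U.1) hV le_rfl hzU)).symm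
  let f : X.presheaf.stalk (i z) →+* Z.presheaf.stalk z := (i.stalkMap z).hom
  have hf : ∀ a : Γ(X, U.1), f (algebraMap _ _ a) = algebraMap _ _ (φ a) := fun a =>
    Scheme.Hom.germ_stalkMap_apply i U.1 z hzU a
  have hM : Submonoid.map φ (U.2.primeIdealOf ⟨i z, hzU⟩).asIdeal.primeCompl =
      (hV.primeIdealOf ⟨z, hzU⟩).asIdeal.primeCompl := by
    ext b
    constructor
    · rintro ⟨a, ha, rfl⟩ hb
      exact ha (by rw [hcomap]; exact hb)
    · intro hb
      obtain ⟨a, rfl⟩ := hs b
      exact ⟨a, fun h => hb (by rw [hcomap] at h; exact h), rfl⟩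
  have hfm : f = IsLocalization.map (Z.presheaf.stalk z) φ
      (show (U.2.primeIdealOf ⟨i z, hzU⟩).asIdeal.primeCompl ≤
        (hV.primeIdealOf ⟨z, hzU⟩).asIdeal.primeCompl.comap φ from
        Submonoid.map_le_iff_le_comap.1 hM.le) := by
    refine IsLocalization.ringHom_ext (U.2.primeIdealOf ⟨i z, hzU⟩).asIdeal.primeCompl (RingHom.ext fun a => ?_)
    rw [RingHom.comp_apply, RingHom.comp_apply, hf, IsLocalization.map_eq]
  have hker' : RingHom.ker f =
      Ideal.ofList (rs.map (algebraMap Γ(X, U.1) (X.presheaf.stalk (i z)))) := by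
    rw [← Ideal.map_ofList, ← hker, hfm]
    exact IsLocalization.ker_map (Z.presheaf.stalk z) φ hM
  have hsurj : Function.Surjective f := by
    haveI : IsLocalization (Submonoid.map φ (U.2.primeIdealOf ⟨i z, hzU⟩).asIdeal.primeCompl)
        (Z.presheaf.stalk z) := by rw [hM]; exact hZ
    rw [hfm]
    exact IsLocalization.map_surjective_of_surjective (U.2.primeIdealOf ⟨i z, hzU⟩).asIdeal.primeCompl
      (X.presheaf.stalk (i z)) (Z.presheaf.stalk z) hs
  haveI : Module.Flat Γ(X, U.1) (X.presheaf.stalk (i z)) :=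
    IsLocalization.flat _ (U.2.primeIdealOf ⟨i z, hzU⟩).asIdeal.primeCompl
  have hreg : RingTheory.Sequence.IsRegular (X.presheaf.stalk (i z))
      (rs.map (algebraMap Γ(X, U.1) (X.presheaf.stalk (i z)))) := by
    refine ⟨RingTheory.Sequence.IsWeaklyRegular.of_flat hrs, fun htop => ?_⟩
    rw [← hker', smul_eq_mul, Ideal.mul_top] at htop
    have h1 : (1 : X.presheaf.stalk (i z)) ∈ RingHom.ker f := by rw [← htop]; exact Submodule.mem_top
    rw [RingHom.mem_ker, map_one] at h1
    exact one_ne_zero h1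
  have h := ringKrullDim_add_length_eq_ringKrullDim_of_isRegular _ hreg
  rw [List.length_map, ← hker',
    ringKrullDim_eq_of_ringEquiv (RingHom.quotientKerEquivOfSurjective hsurj)] at h
  exact h

variable {K : Type u} [Field K]

/-- At a closed point, the dimension of the local ring is the dimension of some component through it. -/
theorem codim_eq_of_closed {W : Scheme.{u}} [IsLocallyNoetherian W] (g : W ⟶ Spec (CommRingCat.of K))
    [LocallyOfFiniteType g] (d : ℕ)
    (hd : ∀ Z ∈ irreducibleComponents ↥W, topologicalKrullDim ↥Z = (d : WithBot ℕ∞))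
    (x : W) (hx : IsClosed ({x} : Set W)) : codim x = d := by
  haveI := FibDim.subsingleton_spec_field K
  obtain ⟨η, hη, hmax, he⟩ := exists_maximal_cd_eq_codim x
  have h := (cd_formula g hη).2 (isUniversallyCatenary_of_stalk K _)
  have h0 : FibDim.rd g x = 0 := by
    have h1 := FibDim.topologicalKrullDim_closure g x
    rw [hx.closure_eq] at h1
    have h1' := h1.symm.le.trans (topologicalKrullDim_zero_of_discreteTopology _)
    exact_mod_cast Nat.le_zero.1 (by exact_mod_cast h1')
  have h2 : cd (g η) (g x) = 0 := by rw [Subsingleton.elim (g η) (g x)]; exact cd_self _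
  have h3 := hd _ (FDescent.closure_mem_irreducibleComponents hmax)
  rw [FibDim.topologicalKrullDim_closure g η] at h3
  have h4 : FibDim.rd g η = d := by exact_mod_cast h3
  omega
where
  isUniversallyCatenary_of_stalk (K : Type u) [Field K] (y : ↥(Spec (CommRingCat.of K))) :
      CAlg.IsUniversallyCatenary ((Spec (CommRingCat.of K)).presheaf.stalk y) := by
    have hs : Function.Surjective (algebraMap K (Localization.AtPrime y.asIdeal)) := fun w => by
      obtain ⟨a, s, rfl⟩ := IsLocalization.exists_mk'_eq y.asIdeal.primeCompl w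
      have hne : (s : K) ≠ 0 := fun h => s.2 (h ▸ y.asIdeal.zero_mem)
      exact ⟨a * (s : K)⁻¹, by rw [IsLocalization.eq_mk'_iff_mul_eq, ← map_mul, mul_assoc, inv_mul_cancel₀ hne, mul_one]⟩
    exact isUniversallyCatenary_of_surjective (isUniversallyCatenary_of_surjective
      (isUniversallyCatenary_field K) _ hs) (StructureSheaf.stalkIso K y).toRingEquiv.toRingHom
      (StructureSheaf.stalkIso K y).surjective

theorem main (X : Scheme.{u}) (f : X ⟶ Spec (CommRingCat.of K)) [Smooth f]
    [IsSeparated f] [IsIntegral X] (n : ℕ) (hn : topologicalKrullDim X = n) :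
    RegImm.IsRegularImmersionOfCodim RegImm.Kind.regular n (pullback.diagonal f) := by
  haveI := FibDim.subsingleton_spec_field K
  haveI : IsLocallyNoetherian X := LocallyOfFiniteType.isLocallyNoetherian f
  let W := pullback f f
  let g : W ⟶ Spec (CommRingCat.of K) := pullback.fst f f ≫ f
  haveI : IsLocallyNoetherian W := LocallyOfFiniteType.isLocallyNoetherian g
  have hreg : RegImm.IsRegularImmersion RegImm.Kind.regular (pullback.diagonal f) := by
    refine ⟨inferInstance, fun z => ?_⟩
    open Groth.Agent in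
    obtain ⟨D, hD, hzD, -, hci⟩ :=
      KRegLib.exists_affine_isClosedImmersion_restrict (pullback.diagonal f) z ⊤ trivial
    haveI := hci
    obtain ⟨hD', hDs⟩ := Synt29.surjective_app_of_isClosedImmersion_restrict (pullback.diagonal f) D hD
    haveI := KRegLib.isRegularRing_sections (GrpSchLib.isRegularLocalRing_stalk_of_smooth g) hD
    haveI := KRegLib.isRegularRing_sections (GrpSchLib.isRegularLocalRing_stalk_of_smooth f) hD'
    refine KRegLib.regImmAt_of_kReg _ (pullback.diagonal f) z hD hzD ?_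
    have hp : (hD.primeIdealOf ⟨pullback.diagonal f z, hzD⟩).asIdeal =
        (hD'.primeIdealOf ⟨z, hzD⟩).asIdeal.comap ((pullback.diagonal f).app D).hom := by
      rw [show ((pullback.diagonal f).app D).hom = ((pullback.diagonal f).appLE D ((pullback.diagonal f) ⁻¹ᵁ D) le_rfl).hom
        by simp only [Scheme.Hom.app_eq_appLE]]
      exact (congrArg PrimeSpectrum.asIdeal
        (IsAffineOpen.comap_primeIdealOf_appLE (f := pullback.diagonal f) D hD _ hD' le_rfl hzD)).symm
    rw [hp]
    exact KRegLib.kReg_of_regular _ hDs _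
  refine ⟨hreg.1, fun z => ?_⟩
  obtain ⟨U, hzU, hci, rs, hrs, hker⟩ := hreg.2 z
  refine ⟨U, hzU, hci, rs, ?_, hrs, hker⟩
  haveI : JacobsonSpace ↥X := LocallyOfFiniteType.jacobsonSpace f
  obtain ⟨w, hwU, hw⟩ := nonempty_inter_closedPoints
    (Z := ((pullback.diagonal f) ⁻¹ᵁ U.1 : X.Opens).1) ⟨z, hzU⟩
    ((pullback.diagonal f) ⁻¹ᵁ U.1).isOpen.isLocallyClosed
  have hW : IsClosed ({pullback.diagonal f w} : Set W) := by
    rw [← Set.image_singleton]
    exact (pullback.diagonal f).isClosedEmbedding.isClosedMap _ hw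
  have e1 : codim w = n := by
    refine codim_eq_of_closed f n (fun Z hZ => ?_) w hw
    rw [irreducibleComponents_eq_singleton, Set.mem_singleton_iff] at hZ
    subst hZ
    rw [(Homeomorph.Set.univ X).isHomeomorph.topologicalKrullDim_eq, hn]
  have e2 : codim (pullback.diagonal f w) = n + n := by
    refine codim_eq_of_closed g (n + n) (fun Z hZ => ?_) _ hW
    rw [FibDim.topologicalKrullDim_component_pullback Z hZ, hn]
    push_cast
    rfl
  have h := ringKrullDim_stalk_add (pullback.diagonal f) U hci rs hrs.toIsWeaklyRegular hker w hwU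
  rw [ringKrullDim_stalk, ringKrullDim_stalk, e1, e2] at h
  have : n + rs.length = n + n := by exact_mod_cast h
  omega

end Groth.Agent.H9DiagReg
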